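/-
The total complex of uniformly bounded below double complexes preserves quasi-isomorphisms,
by a diagonal chase along the rows.
-/
import Mathlib.Algebra.Homology.TotalComplex
import Mathlib.Algebra.Homology.Refinements
import Mathlib.Algebra.Homology.QuasiIso
import Mathlib.Algebra.Homology.HomologicalComplexAbelian
import Mathlib.Algebra.Homology.HomologicalComplexLimits
import Mathlib.Data.Int.Interval
import Mathlib.Algebra.Order.Ring.Int

open CategoryTheory Limits HomologicalComplex

universe v u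

namespace Groth.Agent.TotQis

variable {A : Type u} [Category.{v} A] [Abelian A]

theorem quasiIso_chase {K L : CochainComplex A ℤ} (f : K ⟶ L) [QuasiIso f]
    (i j k : ℤ) (hij : i + 1 = j) (hjk : j + 1 = k) {T : A} (z : T ⟶ K.X k)
    (hz : z ≫ K.d k (k + 1) = 0) (x : T ⟶ L.X j) (h : z ≫ f.f k = x ≫ L.d j k) :
    ∃ (T' : A) (π : T' ⟶ T) (_ : Epi π) (w : T' ⟶ K.X j) (y : T' ⟶ L.X i),
      π ≫ z = w ≫ K.d j k ∧ π ≫ x = w ≫ f.f j + y ≫ L.d i j := by
  obtain ⟨T₁, π₁, _, w₀, hw₀⟩ := (mono_homologyMap_iff_up_to_refinements f j k (k + 1)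
    (by simp; omega) (by simp)).1 inferInstance z hz x h
  obtain ⟨T₂, π₂, _, c, hc, y, hy⟩ := (epi_homologyMap_iff_up_to_refinements f i j k
    (by simp; omega) (by simp; omega)).1 inferInstance (π₁ ≫ x - w₀ ≫ f.f j) (by
      rw [Preadditive.sub_comp, Category.assoc, Category.assoc, f.comm, ← h, ← Category.assoc,
        ← Category.assoc, hw₀, sub_self])
  refine ⟨T₂, π₂ ≫ π₁, epi_comp _ _, π₂ ≫ w₀ + c, y, ?_, ?_⟩
  · rw [Preadditive.add_comp, hc, add_zero, Category.assoc, hw₀, Category.assoc]
  · rw [Preadditive.comp_sub, sub_eq_iff_eq_add] at hy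
    rw [Category.assoc, hy, Preadditive.add_comp, Category.assoc]
    abel

variable (K L : HomologicalComplex₂ A (ComplexShape.up ℤ) (ComplexShape.up ℤ))
  [K.HasTotal (ComplexShape.up ℤ)] [L.HasTotal (ComplexShape.up ℤ)]

local notation "Tot" K => HomologicalComplex₂.total K (ComplexShape.up ℤ)

/-- The projection of the total complex on a summand. -/
noncomputable def proj (p q n : ℤ) (_h : p + q = n) :
    (Tot K).X n ⟶ (K.X p).X q :=
  K.totalDesc fun i j _ => if h : i = p ∧ j = q then (K.XXIsoOfEq _ _ _ h.1 h.2).hom else 0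

theorem ι_proj (p q n : ℤ) (h : p + q = n) :
    K.ιTotal (ComplexShape.up ℤ) p q n h ≫ proj K p q n h = 𝟙 _ := by
  simp [proj]

theorem ι_proj_ne (i j p q n : ℤ) (h : i + j = n) (h' : p + q = n) (hne : j ≠ q) :
    K.ιTotal (ComplexShape.up ℤ) i j n h ≫ proj K p q n h' = 0 := by
  simp [proj, hne]

theorem eq_of_proj (a b : ℤ) (hK : ∀ p q : ℤ, p < a ∨ q < b → IsZero ((K.X p).X q)) (n : ℤ)
    {T : A} {x y : T ⟶ (Tot K).X n}
    (h : ∀ p q hpq, x ≫ proj K p q n hpq = y ≫ proj K p q n hpq) : x = y := by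
  have hid : 𝟙 ((Tot K).X n) = ∑ q ∈ Finset.Icc b (n - a),
      proj K (n - q) q n (by omega) ≫ K.ιTotal (ComplexShape.up ℤ) (n - q) q n (by simp) := by
    refine HomologicalComplex₂.total.hom_ext _ fun i j hij => ?_
    have hij' : i + j = n := hij
    rw [Category.comp_id, Preadditive.comp_sum]
    by_cases hj : j ∈ Finset.Icc b (n - a)
    · obtain rfl : i = n - j := by omega
      rw [Finset.sum_eq_single_of_mem j hj (fun q _ hq => by
        rw [← Category.assoc, ι_proj_ne K _ _ _ _ _ _ _ (Ne.symm hq), zero_comp])]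
      rw [← Category.assoc, ι_proj, Category.id_comp]
    · exact (hK i j (by simp at hj; omega)).eq_of_src _ _
  rw [← Category.comp_id x, ← Category.comp_id y, hid, Preadditive.comp_sum, Preadditive.comp_sum]
  refine Finset.sum_congr rfl fun q _ => ?_
  rw [← Category.assoc, ← Category.assoc, h]

theorem d_proj (p p' q₀ q n m : ℤ) (hp : p + 1 = p') (hq : q₀ + 1 = q) (hn : p + q = n)
    (hm : p' + q = m) :
    (Tot K).d n m ≫ proj K p' q m hm = proj K p q n hn ≫ (K.d p p').f q +
      p'.negOnePow • (proj K p' q₀ n (by omega) ≫ (K.X p').d q₀ q) := by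
  refine HomologicalComplex₂.total.hom_ext _ fun i j hij => ?_
  have hij' : i + j = n := hij
  simp only [HomologicalComplex₂.total_d, Preadditive.comp_add, Preadditive.add_comp,
    HomologicalComplex₂.ι_D₁_assoc, HomologicalComplex₂.ι_D₂_assoc, Linear.comp_units_smul]
  rw [K.d₁_eq (ComplexShape.up ℤ) (show i + 1 = i + 1 from rfl) j m (by simp; omega),
    K.d₂_eq (ComplexShape.up ℤ) i (show j + 1 = j + 1 from rfl) m (by simp; omega)]
  simp only [Linear.units_smul_comp, Category.assoc]
  congr 1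
  · by_cases hj : j = q
    · obtain rfl : i = p := by omega
      subst hj hp
      rw [ι_proj, reassoc_of% (ι_proj K i j n hn)]
      simp
    · rw [ι_proj_ne K _ _ _ _ _ _ _ hj, comp_zero, smul_zero,
        reassoc_of% (ι_proj_ne K i j p q n hij' hn hj), zero_comp]
  · by_cases hj : j = q₀
    · obtain rfl : i = p' := by omega
      subst hj hq
      rw [ι_proj, reassoc_of% (ι_proj K i j n hij')]
      simp
    · rw [ι_proj_ne K _ _ _ _ _ _ _ (by omega), comp_zero, smul_zero,
        reassoc_of% (ι_proj_ne K i j p' q₀ n hij' (by omega) hj), zero_comp, smul_zero]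

variable {K L} (φ : K ⟶ L)

theorem map_proj (p q n : ℤ) (h : p + q = n) :
    (HomologicalComplex₂.total.map φ (ComplexShape.up ℤ)).f n ≫ proj L p q n h =
      proj K p q n h ≫ (φ.f p).f q := by
  refine HomologicalComplex₂.total.hom_ext _ fun i j hij => ?_
  have hij' : i + j = n := hij
  rw [HomologicalComplex₂.ιTotal_map_assoc]
  by_cases hj : j = q
  · obtain rfl : i = p := by omega
    subst hj
    rw [ι_proj, reassoc_of% (ι_proj K i j n h), Category.comp_id]
  · rw [ι_proj_ne L _ _ _ _ _ _ _ hj, comp_zero,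
      reassoc_of% (ι_proj_ne K i j p q n hij' h hj), zero_comp]

variable (a b : ℤ) (hK : ∀ p q : ℤ, p < a ∨ q < b → IsZero ((K.X p).X q))
  (hL : ∀ p q : ℤ, p < a ∨ q < b → IsZero ((L.X p).X q)) [QuasiIso φ]

omit [K.HasTotal (ComplexShape.up ℤ)] [L.HasTotal (ComplexShape.up ℤ)] in
theorem row_chase (c i j k : ℤ) (hij : i + 1 = j) (hjk : j + 1 = k) {T : A}
    (z : T ⟶ (K.X k).X c) (hz : z ≫ (K.d k (k + 1)).f c = 0) (x : T ⟶ (L.X j).X c)
    (h : z ≫ (φ.f k).f c = x ≫ (L.d j k).f c) :
    ∃ (T' : A) (π : T' ⟶ T) (_ : Epi π) (w : T' ⟶ (K.X j).X c) (y : T' ⟶ (L.X i).X c),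
      π ≫ z = w ≫ (K.d j k).f c ∧ π ≫ x = w ≫ (φ.f j).f c + y ≫ (L.d i j).f c := by
  have : QuasiIso (((HomologicalComplex.eval A (ComplexShape.up ℤ) c).mapHomologicalComplex
    (ComplexShape.up ℤ)).map φ) := inferInstance
  exact quasiIso_chase (((HomologicalComplex.eval A (ComplexShape.up ℤ) c).mapHomologicalComplex
    (ComplexShape.up ℤ)).map φ) i j k hij hjk z hz x h

include hK hL in
theorem chase (l n m : ℤ) (hl : l + 1 = n) (hm : n + 1 = m) :
    ∀ (k : ℕ) (c : ℤ), m - a < c + k → ∀ (T : A) (z : T ⟶ (Tot K).X m) (x : T ⟶ (Tot L).X n),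
      z ≫ (Tot K).d m (m + 1) = 0 →
      z ≫ (HomologicalComplex₂.total.map φ (ComplexShape.up ℤ)).f m = x ≫ (Tot L).d n m →
      (∀ p q hpq, q < c → z ≫ proj K p q m hpq = 0) →
      (∀ p q hpq, q < c → x ≫ proj L p q n hpq = 0) →
      ∃ (T' : A) (π : T' ⟶ T) (_ : Epi π) (w : T' ⟶ (Tot K).X n) (y : T' ⟶ (Tot L).X l),
        π ≫ z = w ≫ (Tot K).d n m ∧
        π ≫ x = w ≫ (HomologicalComplex₂.total.map φ (ComplexShape.up ℤ)).f n +
          y ≫ (Tot L).d l n := by
  intro k
  induction k with
  | zero =>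
    intro c hc T z x _ _ hz hx
    refine ⟨T, 𝟙 _, inferInstance, 0, 0, ?_, ?_⟩
    · rw [Category.id_comp, zero_comp]
      refine eq_of_proj K a b hK m fun p q hpq => ?_
      rw [zero_comp]
      by_cases hq : q < c
      · exact hz p q hpq hq
      · exact (hK p q (by omega)).eq_of_tgt _ _
    · rw [Category.id_comp, zero_comp, zero_comp, add_zero]
      refine eq_of_proj L a b hL n fun p q hpq => ?_
      rw [zero_comp]
      by_cases hq : q < c
      · exact hx p q hpq hq
      · exact (hL p q (by omega)).eq_of_tgt _ _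
  | succ k ih =>
    intro c hc T z x hzd hzx hz hx
    have h₁ : (z ≫ proj K (m - c) c m (by omega)) ≫ (K.d (m - c) (m - c + 1)).f c = 0 := by
      have := congrArg (fun t => t ≫ proj K (m - c + 1) c (m + 1) (by omega)) hzd
      simp only [Category.assoc, zero_comp] at this
      rw [d_proj K (m - c) (m - c + 1) (c - 1) c m (m + 1) rfl (by omega) (by omega) (by omega),
        Preadditive.comp_add, Linear.comp_units_smul, ← Category.assoc z (proj K _ (c - 1) m _),
        hz _ (c - 1) _ (by omega), zero_comp, smul_zero, add_zero] at this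
      rw [Category.assoc, this]
    have h₂ : (z ≫ proj K (m - c) c m (by omega)) ≫ (φ.f (m - c)).f c =
        (x ≫ proj L (n - c) c n (by omega)) ≫ (L.d (n - c) (m - c)).f c := by
      have := congrArg (fun t => t ≫ proj L (m - c) c m (by omega)) hzx
      simp only [Category.assoc] at this
      rw [map_proj, d_proj L (n - c) (m - c) (c - 1) c n m (by omega) (by omega) (by omega) (by omega),
        Preadditive.comp_add, Linear.comp_units_smul, ← Category.assoc x (proj L _ (c - 1) n _),
        hx _ (c - 1) _ (by omega), zero_comp, smul_zero, add_zero] at this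
      rw [Category.assoc, Category.assoc, this]
    obtain ⟨T₁, π, _, w, y, hw, hy⟩ := row_chase φ c (l - c) (n - c) (m - c) (by omega)
      (by omega) (z ≫ proj K (m - c) c m (by omega)) h₁ (x ≫ proj L (n - c) c n (by omega)) h₂
    obtain ⟨W, hWne, hWc⟩ : ∃ W : T₁ ⟶ (Tot K).X n,
        (∀ p q h, q ≠ c → W ≫ proj K p q n h = 0) ∧ W ≫ proj K (n - c) c n (by omega) = w := by
      refine ⟨w ≫ K.ιTotal (ComplexShape.up ℤ) (n - c) c n (by simp), fun p q h hq => ?_, ?_⟩
      · rw [Category.assoc, ι_proj_ne K _ _ _ _ _ _ _ (Ne.symm hq), comp_zero]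
      · rw [Category.assoc, ι_proj, Category.comp_id]
    obtain ⟨Y, hYne, hYc⟩ : ∃ Y : T₁ ⟶ (Tot L).X l,
        (∀ p q h, q ≠ c → Y ≫ proj L p q l h = 0) ∧ Y ≫ proj L (l - c) c l (by omega) = y := by
      refine ⟨y ≫ L.ιTotal (ComplexShape.up ℤ) (l - c) c l (by simp), fun p q h hq => ?_, ?_⟩
      · rw [Category.assoc, ι_proj_ne L _ _ _ _ _ _ _ (Ne.symm hq), comp_zero]
      · rw [Category.assoc, ι_proj, Category.comp_id]
    let Φ := HomologicalComplex₂.total.map φ (ComplexShape.up ℤ)
    have hz' : ∀ p q hpq, q < c + 1 → (π ≫ z - W ≫ (Tot K).d n m) ≫ proj K p q m hpq = 0 := by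
      intro p q hpq hq
      rw [Preadditive.sub_comp, Category.assoc, Category.assoc]
      by_cases hqc : q = c
      · subst hqc
        obtain rfl : p = m - q := by omega
        rw [d_proj K (n - q) (m - q) (q - 1) q n m (by omega) (by omega) (by omega) hpq,
          Preadditive.comp_add, Linear.comp_units_smul, ← Category.assoc W, ← Category.assoc W,
          hWne _ (q - 1) _ (by omega), zero_comp, smul_zero, add_zero, hWc, hw, sub_self]
      · rw [d_proj K (p - 1) p (q - 1) q n m (by omega) (by omega) (by omega) hpq,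
          Preadditive.comp_add, Linear.comp_units_smul, ← Category.assoc W, ← Category.assoc W,
          hWne _ (q - 1) _ (by omega), zero_comp, smul_zero, add_zero, hz p q hpq (by omega),
          hWne _ q _ hqc, comp_zero, zero_comp, sub_zero]
    have hx' : ∀ p q hpq, q < c + 1 →
        (π ≫ x - W ≫ Φ.f n - Y ≫ (Tot L).d l n) ≫ proj L p q n hpq = 0 := by
      intro p q hpq hq
      rw [Preadditive.sub_comp, Preadditive.sub_comp, Category.assoc, Category.assoc,
        Category.assoc, map_proj, ← Category.assoc W]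
      by_cases hqc : q = c
      · subst hqc
        obtain rfl : p = n - q := by omega
        rw [d_proj L (l - q) (n - q) (q - 1) q l n (by omega) (by omega) (by omega) hpq,
          Preadditive.comp_add, Linear.comp_units_smul, ← Category.assoc Y, ← Category.assoc Y,
          hYne _ (q - 1) _ (by omega), zero_comp, smul_zero, add_zero, hWc, hYc, hy]
        abel
      · rw [d_proj L (p - 1) p (q - 1) q l n (by omega) (by omega) (by omega) hpq,
          Preadditive.comp_add, Linear.comp_units_smul, ← Category.assoc Y, ← Category.assoc Y,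
          hYne _ (q - 1) _ (by omega), zero_comp, smul_zero, add_zero, hx p q hpq (by omega),
          hWne _ q _ hqc, hYne _ q _ hqc, comp_zero, zero_comp, zero_comp, sub_zero, sub_zero]
    obtain ⟨T₂, π', _, w', y', hw', hy'⟩ := ih (c + 1) (by push_cast at hc; omega) T₁
      (π ≫ z - W ≫ (Tot K).d n m) (π ≫ x - W ≫ Φ.f n - Y ≫ (Tot L).d l n)
      (by simp [hzd]) (by simp [hzx, Φ]) hz' hx'
    refine ⟨T₂, π' ≫ π, epi_comp _ _, w' + π' ≫ W, y' + π' ≫ Y, ?_, ?_⟩
    · rw [Preadditive.comp_sub, sub_eq_iff_eq_add] at hw'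
      rw [Category.assoc, hw', Preadditive.add_comp]
      simp only [Category.assoc]
    · rw [Preadditive.comp_sub, Preadditive.comp_sub, sub_eq_iff_eq_add, sub_eq_iff_eq_add] at hy'
      rw [Category.assoc, hy', Preadditive.add_comp, Preadditive.add_comp]
      simp only [Φ, Category.assoc]
      abel

include hK hL in
theorem quasiIso_total_map :
    QuasiIso (HomologicalComplex₂.total.map φ (ComplexShape.up ℤ)) := by
  refine ⟨fun n => ?_⟩
  rw [quasiIsoAt_iff_isIso_homologyMap]
  have : Mono (homologyMap (HomologicalComplex₂.total.map φ (ComplexShape.up ℤ)) n) := by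
    rw [mono_homologyMap_iff_up_to_refinements _ (n - 1) n (n + 1) (by simp) (by simp)]
    intro T z hz x hx
    obtain ⟨T', π, hπ, w, y, hw, -⟩ := chase φ a b hK hL (n - 1 - 1) (n - 1) n (by omega) (by omega)
      (n - a - b + 1).toNat b (by omega) T z x hz hx
      (fun p q hpq hq => (hK p q (Or.inr hq)).eq_of_tgt _ _)
      (fun p q hpq hq => (hL p q (Or.inr hq)).eq_of_tgt _ _)
    exact ⟨T', π, hπ, w, hw⟩
  have : Epi (homologyMap (HomologicalComplex₂.total.map φ (ComplexShape.up ℤ)) n) := by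
    rw [epi_homologyMap_iff_up_to_refinements _ (n - 1) n (n + 1) (by simp) (by simp)]
    intro T x hx
    obtain ⟨T', π, hπ, w, y, hw, hy⟩ := chase φ a b hK hL (n - 1) n (n + 1) (by omega) rfl
      (n + 1 - a - b + 1).toNat b (by omega) T 0 x zero_comp (by rw [zero_comp, hx])
      (fun p q hpq hq => zero_comp)
      (fun p q hpq hq => (hL p q (Or.inr hq)).eq_of_tgt _ _)
    exact ⟨T', π, hπ, w, by rw [← hw, comp_zero], y, hy⟩
  exact isIso_of_mono_of_epi _

end Groth.Agent.TotQis
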